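import Mathlib
import Groth.Agent.H27.NilpFin

set_option linter.style.haveILetI false
set_option linter.unusedSectionVars false

/-! A linear map into a flat module over a ring with a nilpotent ideal `𝔞`, which is bijective modulo `𝔞`, is
bijective. -/

namespace Groth.Agent.H61.Rigid

open Groth.Agent.H27.NilpFin

theorem bijective_of_bijective_mod_nilpotent {R : Type*} [CommRing R] (𝔞 : Ideal R) (h𝔞 : IsNilpotent 𝔞)
    {M N : Type*} [AddCommGroup M] [Module R M] [AddCommGroup N] [Module R N] [Module.Flat R N]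
    (f : M →ₗ[R] N)
    (hs : ∀ n : N, ∃ m : M, n - f m ∈ 𝔞 • (⊤ : Submodule R N))
    (hi : ∀ m : M, f m ∈ 𝔞 • (⊤ : Submodule R N) → m ∈ 𝔞 • (⊤ : Submodule R M)) :
    Function.Bijective f := by
  have hsurj : Function.Surjective f := by
    rw [← LinearMap.range_eq_top, eq_top_iff]
    refine le_of_le_sup_smul_of_isNilpotent 𝔞 h𝔞 _ _ ?_
    intro n _
    obtain ⟨m, hm⟩ := hs n
    have : n = f m + (n - f m) := by abel
    rw [this]
    exact Submodule.add_mem_sup (LinearMap.mem_range_self f m) hm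
  refine ⟨?_, hsurj⟩
  rw [← LinearMap.ker_eq_bot, eq_bot_iff]
  refine le_of_le_sup_smul_of_isNilpotent 𝔞 h𝔞 _ _ ?_
  intro x hx
  have hx0 : f x = 0 := hx
  refine Submodule.mem_sup_right ?_
  refine mem_smul_ker_of_flat f hsurj 𝔞 hx0 (hi x ?_)
  rw [hx0]
  exact Submodule.zero_mem _

end Groth.Agent.H61.Rigid
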