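import Groth.Agent.H61.LS.D2Inj

set_option linter.style.haveILetI false
set_option linter.unusedSectionVars false

/-! Lifting lemma: if `T¹(B₀/k, N) = 0`, algebra maps from `B₀` lift along square-zero extensions
with kernel `N`. -/

open TensorProduct

namespace Groth.Agent.H61.Rigid

open CotT MvPolynomial Groth.Agent.H61.LS

universe u v w t m z z'

variable {k : Type u} {B₀ : Type v} [CommRing k] [CommRing B₀] [Algebra k B₀] {ι : Type w} {σ : Type t}
variable (P : Algebra.Presentation k B₀ ι σ)
variable {N : Type m} [AddCommGroup N] [Module B₀ N] [Module k N] [IsScalarTower k B₀ N]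
variable {E : Type z} {E' : Type z'} [CommRing E] [CommRing E'] [Algebra k E] [Algebra k E']

/-- two algebra maps out of a polynomial ring differing by a "square-zero derivation". -/
lemma algHom_eq_sub_of_derivation_like {k : Type u} [CommRing k] {ι : Type w} {E : Type z} [CommRing E]
    [Algebra k E] (g g' : MvPolynomial ι k →ₐ[k] E) (δ : MvPolynomial ι k → E)
    (hC : ∀ a, δ (C a) = 0) (hadd : ∀ a b, δ (a + b) = δ a + δ b)
    (hmul : ∀ a b, δ (a * b) = g a * δ b + g b * δ a) (hsq : ∀ a b, δ a * δ b = 0)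
    (hX : ∀ i, g' (X i) = g (X i) - δ (X i)) (r : MvPolynomial ι k) : g' r = g r - δ r := by
  induction r using MvPolynomial.induction_on with
  | C a =>
    rw [hC, sub_zero, ← MvPolynomial.algebraMap_eq, AlgHom.commutes, AlgHom.commutes]
  | add a b ha hb =>
    rw [map_add, map_add, ha, hb, hadd]
    ring
  | mul_X a i ha =>
    rw [map_mul, map_mul, ha, hX, hmul]
    linear_combination hsq a (X i)

theorem exists_lift_of_subsingleton_T1 (hT : Subsingleton (T1 P N))
    (p : E →ₐ[k] E') (hp : Function.Surjective p)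
    (hsq : ∀ x y, p x = 0 → p y = 0 → x * y = 0)
    (u : B₀ →ₐ[k] E') (j : N →ₗ[k] E) (hj0 : ∀ x, p (j x) = 0)
    (hjsurj : ∀ y, p y = 0 → ∃ x, j x = y) (hjinj : Function.Injective j)
    (hcompat : ∀ (b : B₀) (x : N) (e : E), p e = u b → j (b • x) = e * j x) :
    ∃ v : B₀ →ₐ[k] E, ∀ b, p (v b) = u b := by
  classical
  choose lift hlift using hp
  let g : P.toExtension.Ring →ₐ[k] E := aeval (fun i => lift (u (P.val i)))
  have hg : ∀ r : P.toExtension.Ring, p (g r) = u (algebraMap P.toExtension.Ring B₀ r) := by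
    have h1 : p.comp g = u.comp (aeval P.val : MvPolynomial ι k →ₐ[k] B₀) := by
      apply MvPolynomial.algHom_ext
      intro i
      change p (aeval (fun i => lift (u (P.val i))) (X i)) = u (aeval P.val (X i))
      rw [aeval_X, aeval_X, hlift]
    intro r
    rw [algebraMap_toExtension]
    exact AlgHom.congr_fun h1 r
  have hrel : ∀ s, p (g (rel P s)) = 0 := fun s => by rw [hg, algebraMap_rel, map_zero]
  choose c₀ hc₀ using fun s => hjsurj _ (hrel s)
  let c : L1 P →ₗ[B₀] N := (L1basis P).constr B₀ c₀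
  have hc_basis : ∀ s, c ((1 : B₀) ⊗ₜ[P.toExtension.Ring] (Finsupp.single s 1 : relMod P)) = c₀ s := by
    intro s
    rw [← L1basis_apply]
    exact (L1basis P).constr_basis B₀ c₀ s
  have key : ∀ f : relMod P, j (c ((1 : B₀) ⊗ₜ[P.toExtension.Ring] f)) = g (jmap P f) := by
    intro f
    induction f using Finsupp.induction_linear with
    | zero => rw [TensorProduct.tmul_zero, map_zero, map_zero, map_zero, map_zero]
    | add f f' hf hf' => rw [TensorProduct.tmul_add, map_add, map_add, hf, hf', map_add, map_add]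
    | single s r =>
      have h1 : ((1 : B₀) ⊗ₜ[P.toExtension.Ring] (Finsupp.single s r : relMod P) : L1 P) =
          algebraMap P.toExtension.Ring B₀ r •
            ((1 : B₀) ⊗ₜ[P.toExtension.Ring] (Finsupp.single s 1 : relMod P)) := by
        have h2 : (Finsupp.single s r : relMod P) = r • (Finsupp.single s 1 : relMod P) := by
          rw [Finsupp.smul_single, smul_eq_mul, mul_one]
        rw [h2, TensorProduct.tmul_smul, TensorProduct.smul_tmul', TensorProduct.smul_tmul',
          Algebra.smul_def, mul_one, smul_eq_mul, mul_one]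
      rw [h1, map_smul, hc_basis, hcompat _ _ (g r) (hg r), hc₀, jmap_single, map_mul]
  have hcoc : c ∈ cocycles1 P N := by
    rw [LinearMap.mem_ker, d2Star_apply]
    refine LinearMap.ext fun x => ?_
    obtain ⟨q, rfl⟩ := oneT_surjective P x
    rw [LinearMap.comp_apply, d2_oneT, LinearMap.zero_apply]
    apply hjinj
    rw [key, show jmap P (q : relMod P) = 0 from q.2, map_zero, map_zero]
  have h0 : (Submodule.Quotient.mk (⟨c, hcoc⟩ : cocycles1 P N) : T1 P N) = 0 := Subsingleton.elim _ _
  rw [Submodule.Quotient.mk_eq_zero] at h0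
  obtain ⟨ψ, hψ⟩ := h0
  have hψ' : ψ ∘ₗ d1 P = c := hψ
  -- the corrected lift
  let D : P.toExtension.Ring → N := fun r =>
    ψ ((1 : B₀) ⊗ₜ[P.toExtension.Ring] KaehlerDifferential.D k P.toExtension.Ring r)
  let g' : P.toExtension.Ring →ₐ[k] E :=
    aeval (fun i => lift (u (P.val i)) - j (D (X i)))
  have hD_mul : ∀ a b : P.toExtension.Ring, D (a * b) =
      algebraMap P.toExtension.Ring B₀ a • D b + algebraMap P.toExtension.Ring B₀ b • D a := by
    intro a b
    change ψ ((1 : B₀) ⊗ₜ[P.toExtension.Ring] KaehlerDifferential.D k P.toExtension.Ring (a * b)) = _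
    rw [Derivation.leibniz, TensorProduct.tmul_add, TensorProduct.tmul_smul, TensorProduct.tmul_smul,
      TensorProduct.smul_tmul', TensorProduct.smul_tmul', map_add]
    have h1 : ∀ (a : P.toExtension.Ring) (ω : Ω[P.toExtension.Ring⁄k]),
        ((a • (1 : B₀)) ⊗ₜ[P.toExtension.Ring] ω : L0 P) =
          algebraMap P.toExtension.Ring B₀ a • ((1 : B₀) ⊗ₜ[P.toExtension.Ring] ω) := by
      intro a ω
      rw [TensorProduct.smul_tmul', Algebra.smul_def, mul_one, smul_eq_mul, mul_one]
    rw [h1, h1, map_smul, map_smul]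
  have hDC : ∀ a : k, D (C a) = 0 := by
    intro a
    change ψ ((1 : B₀) ⊗ₜ[P.toExtension.Ring]
      KaehlerDifferential.D k P.toExtension.Ring (algebraMap k P.toExtension.Ring a)) = 0
    rw [Derivation.map_algebraMap, TensorProduct.tmul_zero, map_zero]
  have hDadd : ∀ a b : P.toExtension.Ring, D (a + b) = D a + D b := by
    intro a b
    change ψ ((1 : B₀) ⊗ₜ[P.toExtension.Ring]
      KaehlerDifferential.D k P.toExtension.Ring (a + b)) = _
    rw [map_add, TensorProduct.tmul_add, map_add]
  have hδC : ∀ a : k, j (D (C a)) = 0 := fun a => by rw [hDC, map_zero]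
  have hδadd : ∀ a b : P.toExtension.Ring, j (D (a + b)) = j (D a) + j (D b) := fun a b => by
    rw [hDadd, map_add]
  have hδmul : ∀ a b : P.toExtension.Ring, j (D (a * b)) = g a * j (D b) + g b * j (D a) := fun a b => by
    rw [hD_mul, map_add, hcompat _ _ (g a) (hg a), hcompat _ _ (g b) (hg b)]
  have hδsq : ∀ a b : P.toExtension.Ring, j (D a) * j (D b) = 0 := fun a b =>
    hsq _ _ (hj0 _) (hj0 _)
  have hX : ∀ i, g' (X i) = g (X i) - j (D (X i)) := by
    intro i
    change aeval _ (X i) = aeval _ (X i) - _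
    rw [aeval_X, aeval_X]
  have hstar : ∀ r : P.toExtension.Ring, g' r = g r - j (D r) :=
    algHom_eq_sub_of_derivation_like (k := k) (ι := ι) g g' (fun r => j (D r)) hδC hδadd hδmul hδsq hX
  have hker : ∀ r : P.toExtension.Ring, algebraMap P.toExtension.Ring B₀ r = 0 → g' r = 0 := by
    intro r hr
    have hr' : r ∈ LinearMap.range (jmap P) := by rw [range_jmap]; exact hr
    obtain ⟨f, rfl⟩ := hr'
    rw [hstar, ← key, ← hψ', LinearMap.comp_apply, d1_tmul, one_smul, sub_self]
  -- descend to `B₀`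
  let πₐ : P.toExtension.Ring →ₐ[k] B₀ := IsScalarTower.toAlgHom k P.toExtension.Ring B₀
  have hπ : Function.Surjective πₐ := P.toExtension.algebraMap_surjective
  have hker' : ∀ a ∈ RingHom.ker πₐ, g' a = 0 := fun r hr => hker r hr
  let v : B₀ →ₐ[k] E :=
    (Ideal.Quotient.liftₐ (RingHom.ker πₐ) g' hker').comp
      (Ideal.quotientKerAlgEquivOfSurjective hπ).symm.toAlgHom
  refine ⟨v, fun b => ?_⟩
  obtain ⟨r, rfl⟩ := hπ b
  have h1 : (Ideal.quotientKerAlgEquivOfSurjective hπ).symm (πₐ r) = Ideal.Quotient.mk _ r := by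
    rw [AlgEquiv.symm_apply_eq]
    rfl
  have h2 : v (πₐ r) = g' r := by
    change Ideal.Quotient.liftₐ (RingHom.ker πₐ) g' hker'
      ((Ideal.quotientKerAlgEquivOfSurjective hπ).symm (πₐ r)) = _
    rw [h1]
    rfl
  rw [h2, hstar, map_sub, hj0, sub_zero, hg]
  rfl

end Groth.Agent.H61.Rigid
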