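import Groth.Agent.H61.Rigid.TauSplit

set_option linter.style.haveILetI false
set_option linter.unusedSectionVars false

/-! Base change of a `τ`-splitting along a surjection of base rings. -/

open TensorProduct

namespace Groth.Agent.H61.Rigid

open Algebra MvPolynomial

universe u u' v v' w

variable {R : Type u} {R' : Type u'} {S : Type v} {S' : Type v'}
  [CommRing R] [CommRing R'] [CommRing S] [CommRing S']
  [Algebra R S] [Algebra R' S'] [Algebra R R'] [Algebra S S'] [Algebra R S']
  [IsScalarTower R R' S'] [IsScalarTower R S S'] {ι : Type w}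

theorem TauSplit.baseChange (G : Generators R S ι) (G' : Generators R' S' ι)
    (hval : ∀ i, G'.val i = algebraMap S S' (G.val i))
    (hR : Function.Surjective (algebraMap R R'))
    (hker : RingHom.ker (algebraMap S S') ≤ (RingHom.ker (algebraMap R R')).map (algebraMap R S))
    {τ : S} (h : TauSplit G.toExtension τ) : TauSplit G'.toExtension (algebraMap S S' τ) := by
  classical
  obtain ⟨ρ, hρ⟩ := h
  let f : Generators.Hom G G' := ⟨X, fun i => by rw [aeval_X, hval]⟩
  let F : G.toExtension.Hom G'.toExtension := f.toExtensionHom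
  let φ : G.Ring →ₐ[R] G'.Ring := f.toAlgHom
  have hFX : ∀ i, φ (X i) = X i := fun i => f.toAlgHom_X i
  have hFC : ∀ r, φ (C r) = C (algebraMap R R' r) := fun r => f.toAlgHom_C r
  have hFsurj : Function.Surjective φ := by
    intro p'
    induction p' using MvPolynomial.induction_on with
    | C r' =>
      obtain ⟨r, rfl⟩ := hR r'
      exact ⟨C r, hFC r⟩
    | add p q hp hq =>
      obtain ⟨p₁, rfl⟩ := hp
      obtain ⟨q₁, rfl⟩ := hq
      exact ⟨p₁ + q₁, map_add _ _ _⟩
    | mul_X p i hp =>
      obtain ⟨p₁, rfl⟩ := hp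
      exact ⟨p₁ * X i, by rw [map_mul, hFX]⟩
  have hFaeval : ∀ p : G.Ring, aeval G'.val (φ p) = algebraMap S S' (aeval G.val p) :=
    fun p => f.algebraMap_toAlgHom p
  -- elements of `𝔞 S` lift to polynomials killed by `φ`
  have hlift : ∀ s ∈ (RingHom.ker (algebraMap R R')).map (algebraMap R S),
      ∃ q : G.Ring, aeval G.val q = s ∧ φ q = 0 := by
    intro s hs
    refine Submodule.span_induction ?_ ?_ ?_ ?_ hs
    · rintro _ ⟨a, ha, rfl⟩
      refine ⟨C a, by rw [aeval_C], ?_⟩
      rw [hFC, (RingHom.mem_ker).1 ha, map_zero]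
    · exact ⟨0, map_zero _, map_zero _⟩
    · rintro x y _ _ ⟨q₁, h1, h1'⟩ ⟨q₂, h2, h2'⟩
      exact ⟨q₁ + q₂, by rw [map_add, h1, h2], by rw [map_add, h1', h2', add_zero]⟩
    · rintro a x _ ⟨q, h1, h1'⟩
      exact ⟨G.σ a * q, by rw [map_mul, G.aeval_val_σ, h1, smul_eq_mul], by rw [map_mul, h1', mul_zero]⟩
  have hK : ∀ p' : G'.Ring, aeval G'.val p' = 0 → ∃ p : G.Ring, aeval G.val p = 0 ∧ φ p = p' := by
    intro p' hp'
    obtain ⟨p₁, rfl⟩ := hFsurj p'
    rw [hFaeval] at hp'
    obtain ⟨q, hq1, hq2⟩ := hlift _ (hker hp')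
    exact ⟨p₁ - q, by rw [map_sub, hq1, sub_self], by rw [map_sub, hq2, sub_zero]⟩
  have hCotSurj : Function.Surjective (Extension.Cotangent.map F) := by
    intro y'
    obtain ⟨⟨p', hp'⟩, rfl⟩ := Extension.Cotangent.mk_surjective y'
    have hp'0 : aeval G'.val p' = 0 := by
      have h := hp'
      rw [show G'.toExtension.ker = G'.ker from rfl, Generators.ker_eq_ker_aeval_val] at h
      exact h
    obtain ⟨p, hp, hpp'⟩ := hK p' hp'0
    have hp2 : p ∈ G.toExtension.ker := by
      rw [show G.toExtension.ker = G.ker from rfl, Generators.ker_eq_ker_aeval_val]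
      exact hp
    refine ⟨Extension.Cotangent.mk ⟨p, hp2⟩, ?_⟩
    rw [Extension.Cotangent.map_mk]
    congr 1
    exact Subtype.ext hpp'
  let ρ' : G'.toExtension.CotangentSpace →ₗ[S'] G'.toExtension.Cotangent :=
    G'.cotangentSpaceBasis.constr S' (fun i => Extension.Cotangent.map F (ρ (G.cotangentSpaceBasis i)))
  have hA : (ρ'.restrictScalars S) ∘ₗ (Extension.CotangentSpace.map F) = (Extension.Cotangent.map F) ∘ₗ ρ := by
    refine G.cotangentSpaceBasis.ext fun i => ?_
    rw [LinearMap.comp_apply, LinearMap.comp_apply, LinearMap.restrictScalars_apply]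
    have h1 : Extension.CotangentSpace.map F (G.cotangentSpaceBasis i) = G'.cotangentSpaceBasis i := by
      rw [Generators.cotangentSpaceBasis_apply, Generators.cotangentSpaceBasis_apply]
      refine (Extension.CotangentSpace.map_tmul F (1 : S) (X i : MvPolynomial ι R)).trans ?_
      rw [map_one]
      congr 2
      exact hFX i
    rw [h1]
    exact G'.cotangentSpaceBasis.constr_basis S' _ i
  refine ⟨ρ', fun y' => ?_⟩
  obtain ⟨y, rfl⟩ := hCotSurj y'
  rw [← Extension.CotangentSpace.map_cotangentComplex]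
  have h2 := LinearMap.congr_fun hA (G.toExtension.cotangentComplex y)
  rw [LinearMap.comp_apply, LinearMap.comp_apply, LinearMap.restrictScalars_apply] at h2
  rw [h2, hρ, map_smul, algebraMap_smul]

theorem TauSplit.exists_baseChange (G : Generators R S ι)
    (hR : Function.Surjective (algebraMap R R')) (hS : Function.Surjective (algebraMap S S'))
    (hker : RingHom.ker (algebraMap S S') ≤ (RingHom.ker (algebraMap R R')).map (algebraMap R S))
    {τ : S} (h : TauSplit G.toExtension τ) :
    ∃ G' : Generators R' S' ι, TauSplit G'.toExtension (algebraMap S S' τ) := by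
  have hsurj : Function.Surjective (aeval (R := R') (fun i => algebraMap S S' (G.val i))) := by
    intro s'
    obtain ⟨s, rfl⟩ := hS s'
    refine ⟨MvPolynomial.map (algebraMap R R') (G.σ s), ?_⟩
    rw [aeval_map_algebraMap]
    have := MvPolynomial.aeval_algebraMap_apply (R := R) (A := S) S' G.val (G.σ s)
    rw [G.aeval_val_σ] at this
    exact this
  exact ⟨Generators.ofSurjective _ hsurj,
    TauSplit.baseChange G (Generators.ofSurjective _ hsurj) (fun _ => rfl) hR hker h⟩

end Groth.Agent.H61.Rigid
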