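import Groth.Agent.H61.Rigid.TauSplit

set_option linter.style.haveILetI false
set_option linter.unusedSectionVars false

/-! Descent of a `τ`-splitting along a flat base change `k → T`, using a `k`-linear functional on `T`. -/

open TensorProduct

namespace Groth.Agent.H61.Rigid

open Algebra

universe u w

attribute [local instance] Algebra.TensorProduct.rightAlgebra

theorem formallySmooth_of_tauSplit_baseChange {k : Type u} [CommRing k] (B₀ : Type u) [CommRing B₀]
    [Algebra k B₀] (T : Type u) [CommRing T] [Algebra k T] [Module.Flat k T]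
    {ι : Type w} (G' : Generators T (T ⊗[k] B₀) ι) (a : T) (lam : T →ₗ[k] k) (hlam : lam a = 1)
    (h : TauSplit G'.toExtension (a ⊗ₜ[k] (1 : B₀))) : Algebra.FormallySmooth k B₀ := by
  let G₀ : Generators k B₀ B₀ := Generators.self k B₀
  let E₀ : Extension k B₀ := G₀.toExtension
  let E₀T : Extension T (T ⊗[k] B₀) := E₀.baseChange (T := T)
  let GT : Generators T (T ⊗[k] B₀) B₀ := G₀.baseChange T
  have h1 : TauSplit GT.toExtension (a ⊗ₜ[k] (1 : B₀)) :=
    h.of_hom (Generators.defaultHom G' GT).toExtensionHom (Generators.defaultHom GT G').toExtensionHom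
  have h2 : TauSplit E₀T (a ⊗ₜ[k] (1 : B₀)) :=
    h1.of_hom (G₀.baseChangeToBaseChange T) (G₀.baseChangeFromBaseChange T)
  obtain ⟨ρ, hρ⟩ := h2
  let tb : E₀.Hom E₀T := E₀.toBaseChange T
  let eC : T ⊗[k] E₀.Cotangent ≃ₗ[T] E₀T.Cotangent := E₀.tensorCotangentOfFlat T
  have heC : ∀ (x : T) (c : E₀.Cotangent), eC (x ⊗ₜ c) = x • Extension.Cotangent.map tb c :=
    fun x c => E₀.tensorCotangentOfFlat_tmul T x c
  let contr : T ⊗[k] E₀.Cotangent →ₗ[k] E₀.Cotangent :=
    (TensorProduct.lid k E₀.Cotangent).toLinearMap ∘ₗ (lam.rTensor E₀.Cotangent)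
  have hcontr : ∀ (x : T) (c : E₀.Cotangent), contr (x ⊗ₜ c) = lam x • c := by
    intro x c
    change TensorProduct.lid k E₀.Cotangent (lam.rTensor E₀.Cotangent (x ⊗ₜ c)) = _
    rw [LinearMap.rTensor_tmul, TensorProduct.lid_tmul]
  let Λ : E₀T.Cotangent → E₀.Cotangent := fun y => contr (eC.symm y)
  have hΛadd : ∀ y y', Λ (y + y') = Λ y + Λ y' := fun y y' => by
    change contr (eC.symm (y + y')) = _
    rw [map_add, map_add]
  have hΛ1 : ∀ (x : T) (c : E₀.Cotangent), Λ (x • Extension.Cotangent.map tb c) = lam x • c := by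
    intro x c
    change contr (eC.symm _) = _
    rw [← heC, LinearEquiv.symm_apply_apply, hcontr]
  have hΛ2 : ∀ (b : B₀) (y : E₀T.Cotangent), Λ (((1 : T) ⊗ₜ[k] b) • y) = b • Λ y := by
    intro b y
    obtain ⟨z, rfl⟩ := eC.surjective y
    induction z using TensorProduct.induction_on with
    | zero =>
      rw [map_zero, smul_zero]
      change contr (eC.symm 0) = b • contr (eC.symm 0)
      simp only [map_zero, smul_zero]
    | tmul x c =>
      rw [heC, hΛ1]
      have : ((1 : T) ⊗ₜ[k] b) • x • Extension.Cotangent.map tb c =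
          x • Extension.Cotangent.map tb (b • c) := by
        rw [map_smul, smul_comm]
        congr 1
      rw [this, hΛ1, smul_comm]
    | add z z' hz hz' =>
      rw [map_add, smul_add, hΛadd, hΛadd, hz, hz', smul_add]
  let l : E₀.CotangentSpace →ₗ[B₀] E₀.Cotangent :=
    { toFun := fun x => Λ (ρ (Extension.CotangentSpace.map tb x))
      map_add' := fun x y => by rw [map_add, map_add, hΛadd]
      map_smul' := fun b x => by
        have e1 : Extension.CotangentSpace.map tb (b • x) = b • Extension.CotangentSpace.map tb x :=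
          map_smul _ b x
        have e2 : (b • Extension.CotangentSpace.map tb x : E₀T.CotangentSpace) =
            ((1 : T) ⊗ₜ[k] b) • Extension.CotangentSpace.map tb x :=
          (algebraMap_smul (T ⊗[k] B₀) b _).symm
        rw [RingHom.id_apply, e1, e2, map_smul, hΛ2] }
  haveI : Algebra.FormallySmooth k E₀.Ring :=
    inferInstanceAs (Algebra.FormallySmooth k (MvPolynomial B₀ k))
  rw [E₀.formallySmooth_iff_split_injection]
  refine ⟨l, LinearMap.ext fun c => ?_⟩
  change Λ (ρ (Extension.CotangentSpace.map tb (E₀.cotangentComplex c))) = c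
  rw [Extension.CotangentSpace.map_cotangentComplex, hρ]
  have : (a ⊗ₜ[k] (1 : B₀)) • Extension.Cotangent.map tb c = a • Extension.Cotangent.map tb c := by
    rw [← algebraMap_smul (T ⊗[k] B₀) a]
    rfl
  rw [this, hΛ1, hlam, one_smul]

end Groth.Agent.H61.Rigid
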