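import Mathlib

set_option linter.style.haveILetI false
set_option linter.unusedSectionVars false

/-! `τ`-splittings of the cotangent complex of an extension, and their invariance. -/

open TensorProduct

namespace Groth.Agent.H61.Rigid

open Algebra

universe w w' u v

variable {R : Type u} {S : Type v} [CommRing R] [CommRing S] [Algebra R S]

/-- the map `I/I² → Ω ⊗ S` admits a retraction up to multiplication by `τ`. -/
def TauSplit (E : Extension.{w} R S) (τ : S) : Prop :=
  ∃ ρ : E.CotangentSpace →ₗ[S] E.Cotangent, ∀ x, ρ (E.cotangentComplex x) = τ • x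

theorem TauSplit.of_hom {E : Extension.{w} R S} {E' : Extension.{w'} R S} (f : E.Hom E') (g : E'.Hom E)
    {τ : S} (h : TauSplit E τ) : TauSplit E' τ := by
  obtain ⟨ρ, hρ⟩ := h
  refine ⟨(Extension.Cotangent.map f) ∘ₗ ρ ∘ₗ (Extension.CotangentSpace.map g) -
    τ • ((f.comp g).sub (Extension.Hom.id E')), fun x => ?_⟩
  have h1 := Extension.Cotangent.map_sub_map (f.comp g) (Extension.Hom.id E')
  have h2 := LinearMap.congr_fun h1 x
  rw [LinearMap.sub_apply, LinearMap.comp_apply, Extension.Cotangent.map_id, LinearMap.id_apply] at h2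
  rw [LinearMap.sub_apply, LinearMap.smul_apply, ← h2, LinearMap.comp_apply, LinearMap.comp_apply,
    Extension.CotangentSpace.map_cotangentComplex, hρ, map_smul, smul_sub,
    Extension.Cotangent.map_comp]
  simp only [LinearMap.coe_comp, LinearMap.coe_restrictScalars, Function.comp_apply]
  abel

end Groth.Agent.H61.Rigid
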