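import Groth.Agent.H61.LS.SmoothLocusT1
import Groth.Agent.H61.Rigid.TauSplit

set_option linter.style.haveILetI false
set_option linter.unusedSectionVars false

/-! If `B_t` is formally smooth over `A`, the cotangent complex of a finite presentation of `B` splits up to a
power of `t`. -/

open TensorProduct

namespace Groth.Agent.H61.Rigid

open CotT Groth.Agent.H61.LS

universe u

theorem exists_tauSplit_of_formallySmooth_away (A B : Type u) [CommRing A] [CommRing B] [Algebra A B]
    [IsNoetherianRing A] [Algebra.FiniteType A B] (t : B)
    (h : Algebra.FormallySmooth A (Localization.Away t)) :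
    haveI : Algebra.FinitePresentation A B := Algebra.FinitePresentation.of_finiteType.1 inferInstance
    ∃ n : ℕ, TauSplit (Algebra.Presentation.ofFinitePresentation A B).toExtension (t ^ n) := by
  haveI : Algebra.FinitePresentation A B := Algebra.FinitePresentation.of_finiteType.1 inferInstance
  obtain ⟨n₀, hn₀⟩ := (formallySmooth_away_iff A B t).1 h
  let P := Algebra.Presentation.ofFinitePresentation A B
  haveI : Module.Finite B P.toExtension.Cotangent := by
    apply Algebra.Extension.Cotangent.finite
    change (P.ker).FG
    rw [← P.span_range_relation_eq_ker]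
    exact Submodule.fg_span (Set.finite_range _)
  refine ⟨n₀, ?_⟩
  let M := P.toExtension.Cotangent
  obtain ⟨-, h2, -⟩ := Groth.Agent.S12289.result A B _ _ P M
  have h3 : t ^ n₀ • (homToT1 P M LinearMap.id) = 0 :=
    pow_smul_T1_eq_zero_transfer A B (canon A B) P t n₀ M (hn₀ M) _
  rw [← map_smul, ← LinearMap.mem_ker, h2] at h3
  obtain ⟨ψ, hψ⟩ := h3
  rw [LinearMap.lcomp_apply'] at hψ
  refine ⟨ψ, fun x => ?_⟩
  have := LinearMap.congr_fun hψ x
  rw [LinearMap.comp_apply] at this
  rw [this]
  rfl

end Groth.Agent.H61.Rigid
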