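import Groth.Agent.H61.Rigid.Lift

set_option linter.style.haveILetI false
set_option linter.unusedSectionVars false

/-! Formal triviality, part 1: a rigid `B₀ = B/τB` (with `τ` a non-zero-divisor) has compatible sections
`B₀ → B/τ^j B`. -/

namespace Groth.Agent.H61.Rigid

open CotT

universe u

variable {k : Type u} [CommRing k] {B₀ : Type u} [CommRing B₀] [Algebra k B₀]
  {B : Type u} [CommRing B] [Algebra k B] (τ : B)

lemma span_pow_succ_le (j : ℕ) : Ideal.span {τ ^ (j + 1)} ≤ Ideal.span {τ ^ j} := by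
  rw [Ideal.span_singleton_le_span_singleton]
  exact ⟨τ, pow_succ τ j⟩

lemma span_pow_le (j : ℕ) (hj : 1 ≤ j) : Ideal.span {τ ^ j} ≤ Ideal.span {τ} := by
  rw [Ideal.span_singleton_le_span_singleton]
  exact dvd_pow_self τ (by omega)

/-- multiplication by `τ^j`, as a map `B/τ → B/τ^(j+1)`. -/
noncomputable def mulPow (j : ℕ) : (B ⧸ Ideal.span {τ}) →ₗ[B] (B ⧸ Ideal.span {τ ^ (j + 1)}) :=
  Submodule.liftQ (Ideal.span {τ})
    ((Submodule.mkQ (Ideal.span {τ ^ (j + 1)})) ∘ₗ LinearMap.mulLeft B (τ ^ j)) (by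
      rw [Ideal.span_le, Set.singleton_subset_iff]
      change _ ∈ LinearMap.ker _
      rw [LinearMap.mem_ker, LinearMap.comp_apply, LinearMap.mulLeft_apply, Submodule.mkQ_apply,
        Submodule.Quotient.mk_eq_zero, ← pow_succ]
      exact Ideal.subset_span rfl)

lemma mulPow_mk (j : ℕ) (b : B) :
    mulPow τ j (Ideal.Quotient.mk _ b) = Ideal.Quotient.mk _ (τ ^ j * b) := rfl

variable {τ}

theorem exists_next (hτ : τ ∈ nonZeroDivisors B) (e : (B ⧸ Ideal.span {τ}) ≃ₐ[k] B₀)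
    (hrigid : Subsingleton (T1 (canon k B₀) B₀)) (j : ℕ) (hj : 1 ≤ j)
    (s : B₀ →ₐ[k] B ⧸ Ideal.span {τ ^ j})
    (hs : ∀ b₀, Ideal.Quotient.factor (span_pow_le τ j hj) (s b₀) = e.symm b₀) :
    ∃ s' : B₀ →ₐ[k] B ⧸ Ideal.span {τ ^ (j + 1)},
      ∀ b₀, Ideal.Quotient.factor (span_pow_succ_le τ j) (s' b₀) = s b₀ := by
  let p : (B ⧸ Ideal.span {τ ^ (j + 1)}) →ₐ[k] (B ⧸ Ideal.span {τ ^ j}) :=
    Ideal.Quotient.factorₐ k (span_pow_succ_le τ j)
  let jm : B₀ →ₗ[k] (B ⧸ Ideal.span {τ ^ (j + 1)}) :=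
    ((mulPow τ j).restrictScalars k) ∘ₗ e.symm.toLinearMap
  have hjm : ∀ b : B, jm (e (Ideal.Quotient.mk _ b)) = Ideal.Quotient.mk _ (τ ^ j * b) := by
    intro b
    change mulPow τ j (e.symm (e (Ideal.Quotient.mk _ b))) = _
    rw [AlgEquiv.symm_apply_apply, mulPow_mk]
  have hB₀ : ∀ x : B₀, ∃ b : B, x = e (Ideal.Quotient.mk _ b) := by
    intro x
    obtain ⟨b, hb⟩ := Ideal.Quotient.mk_surjective (e.symm x)
    exact ⟨b, by rw [hb, AlgEquiv.apply_symm_apply]⟩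
  have hkerp : ∀ y : B ⧸ Ideal.span {τ ^ (j + 1)}, p y = 0 →
      ∃ b : B, y = Ideal.Quotient.mk _ (τ ^ j * b) := by
    intro y hy
    obtain ⟨c, rfl⟩ := Ideal.Quotient.mk_surjective y
    change Ideal.Quotient.factor (span_pow_succ_le τ j) (Ideal.Quotient.mk _ c) = 0 at hy
    rw [Ideal.Quotient.factor_mk, Ideal.Quotient.eq_zero_iff_mem, Ideal.mem_span_singleton] at hy
    obtain ⟨b, rfl⟩ := hy
    exact ⟨b, rfl⟩
  have hp : Function.Surjective p := Ideal.Quotient.factor_surjective (span_pow_succ_le τ j)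
  refine exists_lift_of_subsingleton_T1 (canon k B₀) hrigid p hp ?_ s jm ?_ ?_ ?_ ?_
  · -- square zero
    intro x y hx hy
    obtain ⟨a, rfl⟩ := hkerp x hx
    obtain ⟨b, rfl⟩ := hkerp y hy
    rw [← map_mul, Ideal.Quotient.eq_zero_iff_mem, Ideal.mem_span_singleton]
    refine ⟨τ ^ (j - 1) * a * b, ?_⟩
    have h1 : τ ^ j * τ ^ j = τ ^ (j + 1) * τ ^ (j - 1) := by
      rw [← pow_add, ← pow_add]
      congr 1
      omega
    calc τ ^ j * a * (τ ^ j * b) = (τ ^ j * τ ^ j) * (a * b) := by ring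
      _ = τ ^ (j + 1) * (τ ^ (j - 1) * a * b) := by rw [h1]; ring
  · -- `p ∘ jm = 0`
    intro x
    obtain ⟨b, rfl⟩ := hB₀ x
    rw [hjm]
    change Ideal.Quotient.factor (span_pow_succ_le τ j) (Ideal.Quotient.mk _ _) = 0
    rw [Ideal.Quotient.factor_mk, Ideal.Quotient.eq_zero_iff_mem, Ideal.mem_span_singleton]
    exact ⟨b, rfl⟩
  · -- surjectivity onto the kernel
    intro y hy
    obtain ⟨b, rfl⟩ := hkerp y hy
    exact ⟨e (Ideal.Quotient.mk _ b), hjm b⟩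
  · -- injectivity
    rw [injective_iff_map_eq_zero]
    intro x hx
    obtain ⟨b, rfl⟩ := hB₀ x
    rw [hjm, Ideal.Quotient.eq_zero_iff_mem, Ideal.mem_span_singleton] at hx
    obtain ⟨c, hc⟩ := hx
    have h1 : τ ^ j * (b - τ * c) = 0 := by
      rw [mul_sub, hc, pow_succ]
      ring
    have h2 : b - τ * c = 0 := by
      have h3 : τ ^ j ∈ nonZeroDivisors B := pow_mem hτ j
      exact (mul_left_mem_nonZeroDivisors_eq_zero_iff h3).1 h1 |> fun h => h
    have h4 : (Ideal.Quotient.mk (Ideal.span {τ})) b = 0 := by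
      rw [Ideal.Quotient.eq_zero_iff_mem, Ideal.mem_span_singleton]
      exact ⟨c, by rw [← sub_eq_zero, h2]⟩
    rw [h4, map_zero]
  · -- compatibility
    intro b x y hy
    obtain ⟨b', rfl⟩ := hB₀ b
    obtain ⟨x', rfl⟩ := hB₀ x
    obtain ⟨c, rfl⟩ := Ideal.Quotient.mk_surjective y
    have h1 := hs (e (Ideal.Quotient.mk _ b'))
    rw [← hy, AlgEquiv.symm_apply_apply] at h1
    change Ideal.Quotient.factor (span_pow_le τ j hj)
      (Ideal.Quotient.factor (span_pow_succ_le τ j) (Ideal.Quotient.mk _ c)) = _ at h1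
    rw [Ideal.Quotient.factor_mk, Ideal.Quotient.factor_mk, Ideal.Quotient.eq,
      Ideal.mem_span_singleton] at h1
    obtain ⟨d, hd⟩ := h1
    rw [smul_eq_mul, ← map_mul, ← map_mul, hjm, hjm, ← map_mul, Ideal.Quotient.eq,
      Ideal.mem_span_singleton]
    refine ⟨-(d * x'), ?_⟩
    have : c = b' + τ * d := by rw [← hd]; ring
    rw [this, pow_succ]
    ring

theorem exists_section (hτ : τ ∈ nonZeroDivisors B) (e : (B ⧸ Ideal.span {τ}) ≃ₐ[k] B₀)
    (hrigid : Subsingleton (T1 (canon k B₀) B₀)) (j : ℕ) (hj : 1 ≤ j) :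
    ∃ s : B₀ →ₐ[k] B ⧸ Ideal.span {τ ^ j},
      ∀ b₀, Ideal.Quotient.factor (span_pow_le τ j hj) (s b₀) = e.symm b₀ := by
  induction j, hj using Nat.le_induction with
  | base =>
    have h1 : Ideal.span {τ} = Ideal.span {τ ^ 1} := by rw [pow_one]
    refine ⟨((Ideal.quotientEquivAlgOfEq k h1) : _ →ₐ[k] _).comp e.symm.toAlgHom, fun b₀ => ?_⟩
    change Ideal.Quotient.factor _ (Ideal.quotientEquivAlgOfEq k h1 (e.symm b₀)) = _
    obtain ⟨b, hb⟩ := Ideal.Quotient.mk_surjective (e.symm b₀)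
    rw [← hb, Ideal.quotientEquivAlgOfEq_mk, Ideal.Quotient.factor_mk]
  | succ j hj ih =>
    obtain ⟨s, hs⟩ := ih
    obtain ⟨s', hs'⟩ := exists_next hτ e hrigid j hj s hs
    refine ⟨s', fun b₀ => ?_⟩
    rw [← hs, ← hs', Ideal.Quotient.factor_comp_apply]

end Groth.Agent.H61.Rigid
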