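import Groth.Agent.H61.Rigid.Tower
import Groth.Agent.H61.Rigid.NilIso
import Groth.Agent.H27.NilpBasis

set_option linter.style.haveILetI false
set_option linter.unusedSectionVars false

/-! Formal triviality, part 2: from a section `B₀ → B/τ^m` to an isomorphism `B/τ^m ≅ A/t^m ⊗ B₀`. -/

open TensorProduct

namespace Groth.Agent.H61.Rigid

universe u

variable {k : Type u} [Field k] {B₀ : Type u} [CommRing B₀] [Algebra k B₀]
  {A B : Type u} [CommRing A] [CommRing B] [Algebra k A] [Algebra A B] [Algebra k B] [IsScalarTower k A B]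

theorem exists_trivialization [Module.Flat A B] (t : A) (m : ℕ) (hm : 1 ≤ m)
    (hres : ∀ a : A, ∃ c : k, a - algebraMap k A c ∈ Ideal.span {t})
    (τ : B) (hτdef : τ = algebraMap A B t)
    (e : (B ⧸ Ideal.span {τ}) ≃ₐ[k] B₀)
    (s : B₀ →ₐ[k] B ⧸ Ideal.span {τ ^ m})
    (hs : ∀ b₀, Ideal.Quotient.factor (span_pow_le τ m hm) (s b₀) = e.symm b₀) :
    ∃ Θ : B →+* (A ⧸ Ideal.span {t ^ m}) ⊗[k] B₀, Function.Surjective Θ ∧
      (∀ a : A, Θ (algebraMap A B a) = (Ideal.Quotient.mk _ a) ⊗ₜ[k] (1 : B₀)) ∧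
      (∀ b, Θ b = 0 → b ∈ Ideal.span {τ ^ m}) := by
  let T := A ⧸ Ideal.span {t ^ m}
  let N := T ⊗[A] B
  let inc : B →ₐ[A] N := Algebra.TensorProduct.includeRight
  have hinc_surj : Function.Surjective inc := by
    intro n
    induction n using TensorProduct.induction_on with
    | zero => exact ⟨0, map_zero _⟩
    | tmul a b =>
      obtain ⟨a', rfl⟩ := Ideal.Quotient.mk_surjective a
      refine ⟨a' • b, ?_⟩
      change (1 : T) ⊗ₜ[A] (a' • b) = (Ideal.Quotient.mk _ a') ⊗ₜ[A] b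
      rw [TensorProduct.tmul_smul, TensorProduct.smul_tmul', Algebra.smul_def, mul_one]
      rfl
    | add x y hx hy =>
      obtain ⟨x', rfl⟩ := hx
      obtain ⟨y', rfl⟩ := hy
      exact ⟨x' + y', map_add _ _ _⟩
  have hinc_t : ∀ d : B, inc (τ * d) = (Ideal.Quotient.mk (Ideal.span {t ^ m}) t) • inc d := by
    intro d
    change (1 : T) ⊗ₜ[A] (τ * d) = (Ideal.Quotient.mk (Ideal.span {t ^ m}) t) • ((1 : T) ⊗ₜ[A] d)
    rw [hτdef, ← Algebra.smul_def, TensorProduct.tmul_smul, TensorProduct.smul_tmul',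
      TensorProduct.smul_tmul', Algebra.smul_def, mul_one, smul_eq_mul, mul_one]
    rfl
  have hinc_ker : ∀ b : B, inc b = 0 → b ∈ Ideal.span {τ ^ m} := by
    intro b hb
    have h1 : b ∈ (Ideal.span {t ^ m}) • (⊤ : Submodule A B) :=
      (Groth.Agent.H27.NilpBasis.one_tmul_eq_zero_iff A (Ideal.span {t ^ m}) B b).1 hb
    rw [Ideal.smul_top_eq_map, Submodule.restrictScalars_mem, Ideal.map_span, Set.image_singleton,
      map_pow, ← hτdef] at h1
    exact h1
  have hinc_pow : ∀ b ∈ Ideal.span {τ ^ m}, inc b = 0 := by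
    intro b hb
    rw [Ideal.mem_span_singleton] at hb
    obtain ⟨d, rfl⟩ := hb
    change (1 : T) ⊗ₜ[A] (τ ^ m * d) = 0
    rw [hτdef, ← map_pow, ← Algebra.smul_def, TensorProduct.tmul_smul, TensorProduct.smul_tmul',
      Algebra.smul_def, mul_one]
    have : algebraMap A T (t ^ m) = 0 := by
      change Ideal.Quotient.mk _ (t ^ m) = 0
      rw [Ideal.Quotient.eq_zero_iff_mem]
      exact Ideal.subset_span rfl
    rw [this, TensorProduct.zero_tmul]
  let c : (B ⧸ Ideal.span {τ ^ m}) →ₐ[A] N := Ideal.Quotient.liftₐ (Ideal.span {τ ^ m}) inc hinc_pow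
  let sN : B₀ →ₐ[k] N := (c.restrictScalars k).comp s
  let θ : T ⊗[k] B₀ →ₐ[T] N :=
    Algebra.TensorProduct.lift (Algebra.ofId T N) sN (fun _ _ => Commute.all _ _)
  -- description of `sN`
  have hsN : ∀ b₀ : B₀, ∃ b' : B, sN b₀ = inc b' ∧ e.symm b₀ = Ideal.Quotient.mk _ b' := by
    intro b₀
    obtain ⟨b', hb'⟩ := Ideal.Quotient.mk_surjective (s b₀)
    refine ⟨b', ?_, ?_⟩
    · change c (s b₀) = _
      rw [← hb']
      rfl
    · rw [← hs, ← hb', Ideal.Quotient.factor_mk]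
  have hθ1 : ∀ b₀ : B₀, θ ((1 : T) ⊗ₜ[k] b₀) = sN b₀ := by
    intro b₀
    change (Algebra.ofId T N) 1 * sN b₀ = _
    rw [map_one, one_mul]
  let 𝔞 : Ideal T := Ideal.span {Ideal.Quotient.mk (Ideal.span {t ^ m}) t}
  have h𝔞 : IsNilpotent 𝔞 := by
    refine ⟨m, ?_⟩
    rw [Ideal.span_singleton_pow, ← map_pow]
    have : Ideal.Quotient.mk (Ideal.span {t ^ m}) (t ^ m) = 0 := by
      rw [Ideal.Quotient.eq_zero_iff_mem]
      exact Ideal.subset_span rfl
    rw [this, Ideal.zero_eq_bot, Ideal.span_singleton_eq_bot]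
  have hmem𝔞 : ∀ (M : Type u) [AddCommGroup M] [Module T M] (x : M),
      (Ideal.Quotient.mk (Ideal.span {t ^ m}) t) • x ∈ 𝔞 • (⊤ : Submodule T M) := fun M _ _ x =>
    Submodule.smul_mem_smul (Ideal.subset_span rfl) trivial
  have h𝔞N : ∀ x ∈ 𝔞 • (⊤ : Submodule T N), ∃ d : B, x = inc (τ * d) := by
    intro x hx
    refine Submodule.smul_induction_on hx ?_ ?_
    · intro r hr n _
      rw [Ideal.mem_span_singleton] at hr
      obtain ⟨r', rfl⟩ := hr
      obtain ⟨d, hd⟩ := hinc_surj (r' • n)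
      exact ⟨d, by rw [hinc_t, hd, mul_smul]⟩
    · rintro x y ⟨d, rfl⟩ ⟨d', rfl⟩
      exact ⟨d + d', by rw [mul_add, map_add]⟩
  have hbij : Function.Bijective θ.toLinearMap := by
    refine bijective_of_bijective_mod_nilpotent 𝔞 h𝔞 θ.toLinearMap ?_ ?_
    · -- surjective mod `𝔞`
      intro n
      obtain ⟨b, rfl⟩ := hinc_surj n
      obtain ⟨b', hb1, hb2⟩ := hsN (e (Ideal.Quotient.mk _ b))
      refine ⟨(1 : T) ⊗ₜ[k] e (Ideal.Quotient.mk _ b), ?_⟩
      rw [AlgEquiv.symm_apply_apply, Ideal.Quotient.eq, Ideal.mem_span_singleton] at hb2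
      obtain ⟨d, hd⟩ := hb2
      rw [AlgHom.toLinearMap_apply, hθ1, hb1, ← map_sub, hd, hinc_t]
      exact hmem𝔞 N _
    · -- injective mod `𝔞`
      intro x hx
      have h1 : ∀ x : T ⊗[k] B₀, ∃ b₀ : B₀, x - (1 : T) ⊗ₜ[k] b₀ ∈ 𝔞 • (⊤ : Submodule T (T ⊗[k] B₀)) := by
        intro x
        induction x using TensorProduct.induction_on with
        | zero => exact ⟨0, by rw [TensorProduct.tmul_zero, sub_zero]; exact Submodule.zero_mem _⟩
        | tmul a y =>
          obtain ⟨a', rfl⟩ := Ideal.Quotient.mk_surjective a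
          obtain ⟨c₀, hc₀⟩ := hres a'
          rw [Ideal.mem_span_singleton] at hc₀
          obtain ⟨a'', ha''⟩ := hc₀
          refine ⟨c₀ • y, ?_⟩
          have h2 : (Ideal.Quotient.mk (Ideal.span {t ^ m}) a') =
              c₀ • (1 : T) + Ideal.Quotient.mk (Ideal.span {t ^ m}) t * Ideal.Quotient.mk _ a'' := by
            rw [← map_mul, ← ha'', map_sub, Algebra.smul_def, mul_one]
            have h0 : algebraMap k T c₀ = Ideal.Quotient.mk _ (algebraMap k A c₀) := rfl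
            rw [h0, add_sub_cancel]
          have h3 : (Ideal.Quotient.mk (Ideal.span {t ^ m}) a') ⊗ₜ[k] y - (1 : T) ⊗ₜ[k] (c₀ • y) =
              (Ideal.Quotient.mk (Ideal.span {t ^ m}) t) •
                ((Ideal.Quotient.mk (Ideal.span {t ^ m}) a'') ⊗ₜ[k] y) := by
            rw [h2, TensorProduct.add_tmul, TensorProduct.smul_tmul, add_sub_cancel_left,
              TensorProduct.smul_tmul', smul_eq_mul]
          rw [h3]
          exact hmem𝔞 _ _
        | add x y hx hy =>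
          obtain ⟨b₁, h1⟩ := hx
          obtain ⟨b₂, h2⟩ := hy
          refine ⟨b₁ + b₂, ?_⟩
          have : x + y - (1 : T) ⊗ₜ[k] (b₁ + b₂) = (x - (1 : T) ⊗ₜ[k] b₁) + (y - (1 : T) ⊗ₜ[k] b₂) := by
            rw [TensorProduct.tmul_add]; abel
          rw [this]
          exact Submodule.add_mem _ h1 h2
      obtain ⟨b₀, hb₀⟩ := h1 x
      -- `θ` maps `𝔞 • ⊤` into `𝔞 • ⊤`
      have h2 : θ.toLinearMap (x - (1 : T) ⊗ₜ[k] b₀) ∈ 𝔞 • (⊤ : Submodule T N) := by
        have := Submodule.map_smul'' 𝔞 (⊤ : Submodule T (T ⊗[k] B₀)) θ.toLinearMap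
        have h3 : θ.toLinearMap (x - (1 : T) ⊗ₜ[k] b₀) ∈
            Submodule.map θ.toLinearMap (𝔞 • (⊤ : Submodule T (T ⊗[k] B₀))) :=
          Submodule.mem_map_of_mem hb₀
        rw [this] at h3
        exact Submodule.smul_mono le_rfl le_top h3
      have h3 : θ.toLinearMap ((1 : T) ⊗ₜ[k] b₀) ∈ 𝔞 • (⊤ : Submodule T N) := by
        have : θ.toLinearMap ((1 : T) ⊗ₜ[k] b₀) =
            θ.toLinearMap x - θ.toLinearMap (x - (1 : T) ⊗ₜ[k] b₀) := by
          rw [map_sub]; abel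
        rw [this]
        exact Submodule.sub_mem _ hx h2
      rw [AlgHom.toLinearMap_apply, hθ1] at h3
      obtain ⟨b', hb1, hb2⟩ := hsN b₀
      obtain ⟨d, hd⟩ := h𝔞N _ h3
      rw [hb1, ← sub_eq_zero, ← map_sub] at hd
      have h4 := hinc_ker _ hd
      have h5 : b' ∈ Ideal.span {τ} := by
        have h6 : b' - τ * d ∈ Ideal.span {τ} := span_pow_le τ m hm h4
        have h7 : τ * d ∈ Ideal.span {τ} := Ideal.mul_mem_right _ _ (Ideal.subset_span rfl)
        have := Ideal.add_mem _ h6 h7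
        rwa [sub_add_cancel] at this
      have h6 : b₀ = 0 := by
        have : e.symm b₀ = 0 := by rw [hb2, Ideal.Quotient.eq_zero_iff_mem]; exact h5
        rwa [EmbeddingLike.map_eq_zero_iff] at this
      rw [h6, TensorProduct.tmul_zero, sub_zero] at hb₀
      exact hb₀
  -- the trivialization
  let θe : (T ⊗[k] B₀) ≃ₐ[T] N := AlgEquiv.ofBijective θ hbij
  refine ⟨(θe.symm : N →+* T ⊗[k] B₀).comp (inc : B →+* N), ?_, ?_, ?_⟩
  · exact θe.symm.surjective.comp hinc_surj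
  · intro a
    change θe.symm (inc (algebraMap A B a)) = _
    rw [AlgEquiv.symm_apply_eq]
    change _ = θ ((Ideal.Quotient.mk (Ideal.span {t ^ m}) a) ⊗ₜ[k] (1 : B₀))
    have : (Ideal.Quotient.mk (Ideal.span {t ^ m}) a) ⊗ₜ[k] (1 : B₀) =
        algebraMap T (T ⊗[k] B₀) (Ideal.Quotient.mk (Ideal.span {t ^ m}) a) := rfl
    rw [this, AlgHom.commutes, AlgHom.commutes]
    rfl
  · intro b hb
    apply hinc_ker
    change θe.symm (inc b) = 0 at hb
    rwa [EmbeddingLike.map_eq_zero_iff] at hb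

end Groth.Agent.H61.Rigid
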